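import Mathlib
import Groth.Agent.GUConn.Scheme
import Groth.Agent.SerreReg.MiracleFinite
import Groth.Agent.S12124

/-!
Connectedness of the complement of the closed fibre over a geometrically unibranch domain of
dimension at least two.
-/

set_option autoImplicit false
set_option linter.style.haveILetI false

universe u

open TensorProduct IsLocalRing CategoryTheory AlgebraicGeometry

namespace Groth.Agent.PunctFlat

/-- An element with no pole away from the closed point comes from the normalisation. -/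
theorem mem_range_normRed (A B : Type u) [CommRing A] [IsLocalRing A] [IsNoetherianRing A] [CommRing B]
    [Algebra A B] [Module.Flat A B] (hA : CAlg2.IsUnibranch A) (hdim : 2 ≤ ringKrullDim (CAlg2.red A))
    (e : B ⊗[A] FractionRing (CAlg2.red A))
    (he : ∀ a ∈ maximalIdeal A, algebraMap A (FractionRing (CAlg2.red A)) a ≠ 0 →
      ∀ P : Submodule A (FractionRing (CAlg2.red A)),
        (∀ x, (∃ (n : ℕ) (r : A), algebraMap A _ a ^ n * x = algebraMap A _ r) → x ∈ P) →
        e ∈ LinearMap.range (P.subtype.lTensor B)) :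
    ∃ w : B ⊗[A] CAlg2.normRed A,
      Algebra.TensorProduct.map (AlgHom.id A B)
        ((IsScalarTower.toAlgHom (CAlg2.red A) (CAlg2.normRed A) (FractionRing (CAlg2.red A))).restrictScalars A) w
        = e := by
  classical
  obtain ⟨hd, hl⟩ := hA
  haveI : IsDomain (CAlg2.red A) := hd
  haveI : IsLocalRing (CAlg2.normRed A) := hl
  haveI : IsLocalRing (CAlg2.red A) := .of_surjective' _ Ideal.Quotient.mk_surjective
  let K := FractionRing (CAlg2.red A)
  let N := CAlg2.normRed A
  obtain ⟨C, hC, hdvr, hint, hfin⟩ := S12124.result (A := CAlg2.red A)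
  haveI : Algebra.IsIntegral (CAlg2.red A) C := Algebra.IsIntegral.of_finite _ _
  haveI : Algebra.IsIntegral (CAlg2.red A) N := ⟨fun x => IsIntegralClosure.isIntegral (CAlg2.red A) K x⟩
  have hCN : ∀ c : C, (c : K) ∈ integralClosure (CAlg2.red A) K := fun c =>
    (Algebra.IsIntegral.isIntegral c).map C.val
  let ψ : C →ₐ[CAlg2.red A] N := C.val.codRestrict (integralClosure (CAlg2.red A) K) hCN
  have hψ : Function.Injective ψ := fun x y h => Subtype.ext (congrArg Subtype.val h :)
  have hψint : ψ.toRingHom.IsIntegral :=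
    RingHom.IsIntegral.tower_top (algebraMap (CAlg2.red A) C) ψ.toRingHom
      (by rw [AlgHom.toRingHom_eq_coe, ψ.comp_algebraMap]; exact Algebra.IsIntegral.isIntegral)
  haveI : IsLocalRing C := by
    letI := ψ.toRingHom.toAlgebra
    haveI : Algebra.IsIntegral C N := ⟨hψint⟩
    refine IsLocalRing.of_unique_max_ideal ⟨(maximalIdeal N).comap ψ.toRingHom,
      Ideal.isMaximal_comap_of_isIntegral_of_isMaximal (R := C) (maximalIdeal N), fun M hM => ?_⟩
    obtain ⟨Q, -, hQp, hQ⟩ := Ideal.exists_ideal_over_prime_of_isIntegral (S := N) M ⊥ (by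
      rw [← RingHom.ker, (RingHom.injective_iff_ker_eq_bot (algebraMap C N)).mp hψ]; exact bot_le)
    haveI := hQp
    haveI := hM
    have hQm : Q.IsMaximal := Ideal.isMaximal_of_isIntegral_of_isMaximal_comap (R := C) Q
      (by rw [hQ]; exact hM)
    rw [← hQ, IsLocalRing.eq_maximalIdeal hQm]
    rfl
  have hAC : Function.Injective (algebraMap (CAlg2.red A) C) := fun x y h =>
    IsFractionRing.injective (CAlg2.red A) K (congrArg Subtype.val h :)
  have hgood : ∀ p : Ideal C, p.IsPrime → p.height = 1 →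
      ∃ a ∈ maximalIdeal A, algebraMap A K a ≠ 0 ∧ algebraMap A C a ∉ p := by
    intro p hp hp1
    haveI := hp
    by_contra hno
    push Not at hno
    have hle : maximalIdeal A ≤ p.comap (algebraMap A C) := fun a ha => by
      rw [Ideal.mem_comap]
      by_cases h0 : algebraMap A K a = 0
      · rw [show algebraMap A C a = 0 from Subtype.ext h0]
        exact p.zero_mem
      · exact hno a ha h0
    have hmax : p.IsMaximal := by
      haveI : Algebra.IsIntegral A (CAlg2.red A) :=
        Algebra.IsIntegral.of_surjective (Ideal.Quotient.mkₐ A _) Ideal.Quotient.mk_surjective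
      haveI : Algebra.IsIntegral A C := Algebra.IsIntegral.trans (CAlg2.red A)
      refine Ideal.isMaximal_of_isIntegral_of_isMaximal_comap (R := A) p ?_
      rw [← (maximalIdeal.isMaximal A).eq_of_le (Ideal.IsPrime.ne_top inferInstance) hle]
      exact maximalIdeal.isMaximal A
    have h2 : (2 : WithBot ℕ∞) ≤ ringKrullDim C :=
      hdim.trans (SerreReg.ringKrullDim_le_of_isIntegral hAC)
    rw [← IsLocalRing.maximalIdeal_height_eq_ringKrullDim, ← IsLocalRing.eq_maximalIdeal hmax, hp1] at h2
    exact absurd h2 (by decide)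
  obtain ⟨s, hs⟩ := TensorProduct.exists_finset e
  -- the finitely many places where `e` may have a pole
  let bad : Set (Ideal C) := ⋃ k ∈ (↑(s.image Prod.snd) : Set K), {p | p.IsPrime ∧ p.height = 1 ∧
    ¬ ∃ c : C, c ∉ p ∧ IsIntegral C ((c : K) * k)}
  have hbad : bad.Finite := (s.image Prod.snd).finite_toSet.biUnion fun k _ => hfin k
  choose V hVdvr hV using fun p : {p : Ideal C // p.IsPrime ∧ p.height = 1} =>
    haveI := p.2.1; hdvr p.1 p.2.2
  let Vm : {p : Ideal C // p.IsPrime ∧ p.height = 1} → Submodule A K := fun p =>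
    { carrier := {x | x ∈ V p}
      add_mem' := fun ha hb => (V p).add_mem _ _ ha hb
      zero_mem' := (V p).zero_mem
      smul_mem' := fun a x hx => by
        change a • x ∈ V p
        rw [Algebra.smul_def]
        refine (V p).mul_mem _ _ ((hV p _).mpr ⟨1, fun h => p.2.1.ne_top ((Ideal.eq_top_iff_one _).mpr h), ?_⟩) hx
        rw [OneMemClass.coe_one, one_mul, IsScalarTower.algebraMap_apply A (CAlg2.red A) K]
        exact isIntegral_algebraMap.tower_top }
  let W : Submodule A K := ⨅ p : {p : {p : Ideal C // p.IsPrime ∧ p.height = 1} // p.1 ∉ bad}, Vm p.1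
  have hW : e ∈ LinearMap.range (W.subtype.lTensor B) := by
    rw [hs]
    refine Submodule.sum_mem _ fun i hi => ⟨i.1 ⊗ₜ[A] (⟨i.2, ?_⟩ : W), rfl⟩
    rw [Submodule.mem_iInf]
    intro p
    refine (hV p.1 _).mpr (by_contra fun hno => p.2 (Set.mem_iUnion₂.mpr ⟨i.2, Finset.mem_image_of_mem _ hi, p.1.2.1, p.1.2.2, hno⟩))
  have hVm : ∀ p, e ∈ LinearMap.range ((Vm p).subtype.lTensor B) := fun p => by
    obtain ⟨a, ha, ha0, hap⟩ := hgood p.1 p.2.1 p.2.2
    refine he a ha ha0 (Vm p) fun x ⟨n, r, hx⟩ => (hV p x).mpr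
      ⟨algebraMap A C a ^ n, fun h => hap (p.2.1.mem_of_pow_mem n h), ?_⟩
    have hc : ((algebraMap A C a ^ n : C) : K) = algebraMap A K a ^ n := by
      rw [SubmonoidClass.coe_pow]
      rfl
    rw [hc, hx]
    rw [show algebraMap A K r = algebraMap C K (algebraMap A C r) from rfl]
    exact isIntegral_algebraMap
  let badS : Finset {p : Ideal C // p.IsPrime ∧ p.height = 1} :=
    (hbad.preimage (f := Subtype.val) Subtype.val_injective.injOn).toFinset
  have hN : W ⊓ badS.inf Vm ≤ Subalgebra.toSubmodule ((integralClosure (CAlg2.red A) K).restrictScalars A) := by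
    intro x hx
    obtain ⟨hxW, hxB⟩ := hx
    rw [Subalgebra.mem_toSubmodule, Subalgebra.mem_restrictScalars, hint]
    intro p hp hp1
    refine (hV ⟨p, hp, hp1⟩ x).mp ?_
    by_cases hpb : p ∈ bad
    · exact (Finset.inf_le (f := Vm) (show ⟨p, hp, hp1⟩ ∈ badS by simpa [badS] using hpb)) hxB
    · exact (Submodule.mem_iInf _).mp hxW ⟨⟨p, hp, hp1⟩, hpb⟩
  obtain ⟨w, hw⟩ := GUConn.mem_range_of_le B hN (GUConn.mem_range_finset_inf B badS W Vm e hW fun p _ => hVm p)
  let j : Subalgebra.toSubmodule ((integralClosure (CAlg2.red A) K).restrictScalars A) →ₗ[A] N :=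
    { toFun := fun x => ⟨(x : K), x.2⟩
      map_add' := fun _ _ => rfl
      map_smul' := fun _ _ => rfl }
  refine ⟨j.lTensor B w, ?_⟩
  rw [← hw]
  change (((IsScalarTower.toAlgHom (CAlg2.red A) N K).restrictScalars A).toLinearMap.lTensor B) (j.lTensor B w) = _
  rw [← LinearMap.comp_apply, ← LinearMap.lTensor_comp]
  rfl

variable (A B : Type u) [CommRing A] [IsLocalRing A] [IsNoetherianRing A] [IsDomain A] [CommRing B]
  [IsLocalRing B] [Algebra A B] [IsLocalHom (algebraMap A B)] [Module.Flat A B]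

/-- An idempotent with no pole away from the closed point is trivial. -/
theorem idempotent_trivial (hA : CAlg2.IsGeomUnibranch A) (hdim : 2 ≤ ringKrullDim (CAlg2.red A))
    (e : B ⊗[A] FractionRing (CAlg2.red A)) (hidem : IsIdempotentElem e)
    (he : ∀ a ∈ maximalIdeal A, algebraMap A (FractionRing (CAlg2.red A)) a ≠ 0 →
      ∀ P : Submodule A (FractionRing (CAlg2.red A)),
        (∀ x, (∃ (n : ℕ) (r : A), algebraMap A _ a ^ n * x = algebraMap A _ r) → x ∈ P) →
        e ∈ LinearMap.range (P.subtype.lTensor B)) :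
    e = 0 ∨ e = 1 := by
  obtain ⟨⟨hd, hl⟩, hres⟩ := hA
  haveI : IsLocalRing (CAlg2.normRed A) := hl
  haveI : Algebra.IsIntegral A (CAlg2.normRed A) := by
    haveI : Algebra.IsIntegral A (CAlg2.red A) :=
      Algebra.IsIntegral.of_surjective (Ideal.Quotient.mkₐ A _) Ideal.Quotient.mk_surjective
    exact Algebra.IsIntegral.trans (CAlg2.red A)
  haveI : Module.FaithfullyFlat A B := Module.FaithfullyFlat.of_flat_of_isLocalHom
  haveI : Nontrivial (B ⊗[A] CAlg2.normRed A) :=
    (TensorProduct.comm A (CAlg2.normRed A) B).toEquiv.symm.nontrivial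
  haveI := GUConn.isLocalRing_tensor A B (CAlg2.normRed A) fun x => by
      obtain ⟨n, a, ha⟩ := hres (maximalIdeal (CAlg2.normRed A)) x
      exact ⟨n, a, ha.symm⟩
  obtain ⟨w, hw⟩ := mem_range_normRed A B ⟨hd, hl⟩ hdim e he
  set νA := (IsScalarTower.toAlgHom (CAlg2.red A) (CAlg2.normRed A)
    (FractionRing (CAlg2.red A))).restrictScalars A
  set f := Algebra.TensorProduct.map (AlgHom.id A B) νA
  have hf : Function.Injective f :=
    Module.Flat.lTensor_preserves_injective_linearMap νA.toLinearMap Subtype.val_injective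
  have hwi : IsIdempotentElem w := hf (by rw [map_mul, hw, hidem.eq])
  rcases IsLocalRing.isUnit_or_isUnit_one_sub_self w with h | h
  · exact Or.inr (by rw [← hw, (IsIdempotentElem.iff_eq_one_of_isUnit h).mp hwi, map_one])
  · refine Or.inl ?_
    have h0 : 1 - w = 1 := (IsIdempotentElem.iff_eq_one_of_isUnit h).mp hwi.one_sub
    rw [← hw, show w = 0 from sub_eq_self.mp h0, map_zero]

omit [IsNoetherianRing A] [IsLocalRing A] [IsDomain A] [IsLocalRing B] [IsLocalHom (algebraMap A B)] [Module.Flat A B] in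
/-- A point where `a` is invertible lifts to the localised tensor product. -/
theorem exists_over (a : A) (x : PrimeSpectrum B) (hx : algebraMap A B a ∉ x.asIdeal) :
    ∃ z : PrimeSpectrum (B ⊗[A] Localization.Away a),
      PrimeSpectrum.comap (algebraMap B (B ⊗[A] Localization.Away a)) z = x := by
  have hu : IsUnit (algebraMap A x.asIdeal.ResidueField a) := by
    rw [isUnit_iff_ne_zero, IsScalarTower.algebraMap_apply A B x.asIdeal.ResidueField, ne_eq,
      Ideal.algebraMap_residueField_eq_zero]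
    exact hx
  let l : Localization.Away a →ₐ[A] x.asIdeal.ResidueField :=
    { IsLocalization.Away.lift a hu with
      commutes' := fun r => IsLocalization.Away.lift_eq a hu r }
  let g := Algebra.TensorProduct.lift (IsScalarTower.toAlgHom A B x.asIdeal.ResidueField) l
    fun _ _ => Commute.all _ _
  refine ⟨PrimeSpectrum.comap g.toRingHom ⟨⊥, Ideal.isPrime_bot⟩, PrimeSpectrum.ext ?_⟩
  have h2 : g.toRingHom.comp (algebraMap B (B ⊗[A] Localization.Away a)) = algebraMap B x.asIdeal.ResidueField :=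
    RingHom.ext fun b => by simp [g]
  change ((⊥ : Ideal x.asIdeal.ResidueField).comap g.toRingHom).comap _ = _
  rw [Ideal.comap_comap, h2, ← RingHom.ker_eq_comap_bot, Ideal.ker_algebraMap_residueField]

/-- The part away from the closed fibre of a flat local algebra is connected. -/
theorem isConnected_away (hA : CAlg2.IsGeomUnibranch A) (hdim : 2 ≤ ringKrullDim A) :
    _root_.IsConnected {x : PrimeSpectrum B | PrimeSpectrum.comap (algebraMap A B) x ≠ closedPoint A} := by
  classical
  set U := {x : PrimeSpectrum B | PrimeSpectrum.comap (algebraMap A B) x ≠ closedPoint A} with hU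
  have hn : nilradical A = ⊥ := nilradical_eq_zero A
  let eA : A ≃+* CAlg2.red A := ((RingEquiv.quotientBot A).symm).trans (Ideal.quotEquivOfEq hn.symm)
  haveI : IsDomain (CAlg2.red A) := eA.symm.toMulEquiv.isDomain
  have hdim' : 2 ≤ ringKrullDim (CAlg2.red A) := hdim.trans (ringKrullDim_eq_of_ringEquiv eA).le
  let K := FractionRing (CAlg2.red A)
  have hinj : Function.Injective (algebraMap A K) :=
    (IsFractionRing.injective (CAlg2.red A) K).comp eA.injective
  have hne : ∀ x ∈ U, ∃ a ∈ maximalIdeal A, algebraMap A B a ∉ x.asIdeal := by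
    intro x hx
    by_contra hno
    push Not at hno
    exact hx (PrimeSpectrum.ext (le_antisymm (le_maximalIdeal (Ideal.IsPrime.ne_top inferInstance))
      fun a ha => hno a ha))
  have hUmem : ∀ (a : A), a ∈ maximalIdeal A → ∀ z : PrimeSpectrum (B ⊗[A] Localization.Away a),
      PrimeSpectrum.comap (algebraMap B _) z ∈ U := by
    intro a ha z hz
    have h1 : algebraMap B (B ⊗[A] Localization.Away a) (algebraMap A B a) ∈ z.asIdeal :=
      (congrArg PrimeSpectrum.asIdeal hz).ge ha
    rw [← IsScalarTower.algebraMap_apply] at h1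
    refine z.isPrime.ne_top (Ideal.eq_top_of_isUnit_mem _ h1 ?_)
    rw [← (Algebra.TensorProduct.includeRight : Localization.Away a →ₐ[A] B ⊗[A] Localization.Away a).commutes]
    exact (IsLocalization.Away.algebraMap_isUnit a).map _
  refine isConnected_iff_connectedSpace.2 ?_
  haveI : Nonempty U := by
    haveI : Module.FaithfullyFlat A B := Module.FaithfullyFlat.of_flat_of_isLocalHom
    obtain ⟨x, hx⟩ := PrimeSpectrum.comap_surjective_of_faithfullyFlat (A := A) (B := B) ⟨⊥, Ideal.isPrime_bot⟩
    refine ⟨⟨x, fun h => ?_⟩⟩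
    rw [hx] at h
    have h0 : maximalIdeal A = ⊥ := (congrArg PrimeSpectrum.asIdeal h).symm
    haveI : IsField A := (IsLocalRing.isField_iff_maximalIdeal_eq).2 h0
    rw [ringKrullDim_eq_zero_of_isField ‹_›] at hdim
    exact absurd hdim (by decide)
  refine { toNonempty := inferInstance, toPreconnectedSpace := ?_ }
  rw [preconnectedSpace_iff_clopen]
  intro Z hZ
  -- the idempotents on the charts
  have hchart : ∀ a : {a : A // a ∈ maximalIdeal A}, ∃ ε : B ⊗[A] Localization.Away a.1, IsIdempotentElem ε ∧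
      (PrimeSpectrum.basicOpen ε : Set (PrimeSpectrum (B ⊗[A] Localization.Away a.1))) =
        (fun z => (⟨_, hUmem a.1 a.2 z⟩ : U)) ⁻¹' Z := by
    intro a
    obtain ⟨ε, hε, h⟩ := PrimeSpectrum.isClopen_iff.mp
      (hZ.preimage ((PrimeSpectrum.continuous_comap _).subtype_mk (hUmem a.1 a.2)))
    exact ⟨ε, hε, h.symm⟩
  choose ε hε hεZ using hchart
  let l : ∀ (a : A) (T : Type u) [CommRing T] [Algebra A T], IsUnit (algebraMap A T a) →
      (Localization.Away a →ₐ[A] T) := fun a T _ _ hu =>
    { IsLocalization.Away.lift a hu with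
      commutes' := fun r => IsLocalization.Away.lift_eq a hu r }
  have hl : ∀ (a : A) (T : Type u) [CommRing T] [Algebra A T] (g h : Localization.Away a →ₐ[A] T), g = h :=
    fun a T _ _ g h => AlgHom.coe_ringHom_injective
      (IsLocalization.ringHom_ext (Submonoid.powers a) (by rw [g.comp_algebraMap, h.comp_algebraMap]))
  let M := {a : {a : A // a ∈ maximalIdeal A} // algebraMap A K a.1 ≠ 0}
  let F : ∀ a : M, (Localization.Away a.1.1 →ₐ[A] K) := fun a => l a.1.1 K (isUnit_iff_ne_zero.2 a.2)
  let Fe : ∀ a : M, B ⊗[A] K := fun a => Algebra.TensorProduct.map (AlgHom.id A B) (F a) (ε a.1)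
  have hagree : ∀ a b : M, Fe a = Fe b := by
    intro a b
    set c := a.1.1 * b.1.1 with hc
    have hcm : c ∈ maximalIdeal A := Ideal.mul_mem_right _ _ a.1.2
    have hc0 : algebraMap A K c ≠ 0 := by rw [hc, map_mul]; exact mul_ne_zero a.2 b.2
    let C : M := ⟨⟨c, hcm⟩, hc0⟩
    suffices key : ∀ d : M, d.1.1 ∣ c → Fe d = Fe C from
      (key a ⟨_, rfl⟩).trans (key b ⟨_, mul_comm _ _⟩).symm
    intro d hdc
    have hu : IsUnit (algebraMap A (Localization.Away c) d.1.1) :=
      isUnit_of_dvd_unit (map_dvd _ hdc) (IsLocalization.Away.algebraMap_isUnit c)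
    set t := Algebra.TensorProduct.map (AlgHom.id A B) (l d.1.1 (Localization.Away c) hu)
    have hidt : IsIdempotentElem (t (ε d.1)) := (hε d.1).map t
    have htc : t (ε d.1) = ε C.1 := by
      refine PrimeSpectrum.basicOpen_injOn_isIdempotentElem hidt (hε C.1) (SetLike.ext' ?_)
      rw [hεZ C.1]
      ext z
      have h1 : (z : PrimeSpectrum _) ∈ (PrimeSpectrum.basicOpen (t (ε d.1)) : Set _) ↔
          PrimeSpectrum.comap t.toRingHom z ∈ (PrimeSpectrum.basicOpen (ε d.1) : Set _) := Iff.rfl
      rw [h1, hεZ d.1]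
      simp only [Set.mem_preimage]
      refine Iff.of_eq (congrArg (· ∈ Z) (Subtype.ext (PrimeSpectrum.ext ?_)))
      change (z.asIdeal.comap t.toRingHom).comap (algebraMap B _) = z.asIdeal.comap (algebraMap B _)
      rw [Ideal.comap_comap]
      congr 1
      exact RingHom.ext fun x => by simp [t]
    change Algebra.TensorProduct.map (AlgHom.id A B) (F d) (ε d.1) =
      Algebra.TensorProduct.map (AlgHom.id A B) (F C) (ε C.1)
    rw [← htc, hl d.1.1 K (F d) ((F C).comp (l d.1.1 (Localization.Away c) hu)), ← AlgHom.comp_apply,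
      ← Algebra.TensorProduct.map_comp]
    rfl
  obtain ⟨a₀, ha₀, ha₀0⟩ : ∃ a ∈ maximalIdeal A, algebraMap A K a ≠ 0 := by
    obtain ⟨⟨x, hx⟩⟩ := (inferInstance : Nonempty U)
    obtain ⟨a, ha, hax⟩ := hne x hx
    exact ⟨a, ha, fun h => hax (by rw [hinj (h.trans (map_zero _).symm), map_zero]; exact x.asIdeal.zero_mem)⟩
  let m₀ : M := ⟨⟨a₀, ha₀⟩, ha₀0⟩
  have hFinj : ∀ a : M, Function.Injective (Algebra.TensorProduct.map (AlgHom.id A B) (F a)) := by
    intro a
    refine Module.Flat.lTensor_preserves_injective_linearMap (F a).toLinearMap ?_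
    refine (injective_iff_map_eq_zero (F a)).2 fun x hx => ?_
    obtain ⟨r, s, rfl⟩ := IsLocalization.exists_mk'_eq (Submonoid.powers a.1.1) x
    have h1 := congrArg (F a) (IsLocalization.mk'_spec (Localization.Away a.1.1) r s)
    rw [map_mul, hx, zero_mul, AlgHom.commutes] at h1
    rw [hinj (h1.symm.trans (map_zero _).symm), IsLocalization.mk'_zero]
  rcases idempotent_trivial A B hA hdim' (Fe m₀) ((hε m₀.1).map _) (fun a ha ha0 P hP => by
    rw [hagree m₀ ⟨⟨a, ha⟩, ha0⟩]
    have hmem : ∀ x, F ⟨⟨a, ha⟩, ha0⟩ x ∈ P := fun x => by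
      obtain ⟨r, ⟨_, n, rfl⟩, rfl⟩ := IsLocalization.exists_mk'_eq (Submonoid.powers a) x
      refine hP _ ⟨n, r, ?_⟩
      have h1 := congrArg (F ⟨⟨a, ha⟩, ha0⟩)
        (IsLocalization.mk'_spec' (Localization.Away a) r (⟨_, n, rfl⟩ : Submonoid.powers a))
      rwa [map_mul, AlgHom.commutes, AlgHom.commutes, map_pow] at h1
    exact ⟨((F ⟨⟨a, ha⟩, ha0⟩).toLinearMap.codRestrict P hmem).lTensor B (ε ⟨a, ha⟩), by
      rw [← LinearMap.comp_apply, ← LinearMap.lTensor_comp]; rfl⟩) with h | h
  · refine Or.inl (Set.eq_empty_iff_forall_notMem.2 fun x hx => ?_)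
    obtain ⟨a, ha, hax⟩ := hne x.1 x.2
    have ha0 : algebraMap A K a ≠ 0 := fun h' => hax (by
      rw [hinj (h'.trans (map_zero _).symm), map_zero]; exact x.1.asIdeal.zero_mem)
    obtain ⟨z, hz⟩ := exists_over A B a x.1 hax
    have hz0 : ε ⟨a, ha⟩ = 0 := hFinj ⟨⟨a, ha⟩, ha0⟩ (((hagree _ m₀).trans h).trans (map_zero _).symm)
    have hmem : z ∈ (fun z => (⟨_, hUmem a ha z⟩ : U)) ⁻¹' Z := by
      rw [Set.mem_preimage, show (⟨_, hUmem a ha z⟩ : U) = x from Subtype.ext hz]
      exact hx
    rw [← hεZ ⟨a, ha⟩, hz0, PrimeSpectrum.basicOpen_zero] at hmem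
    exact hmem
  · refine Or.inr (Set.eq_univ_iff_forall.2 fun x => ?_)
    obtain ⟨a, ha, hax⟩ := hne x.1 x.2
    have ha0 : algebraMap A K a ≠ 0 := fun h' => hax (by
      rw [hinj (h'.trans (map_zero _).symm), map_zero]; exact x.1.asIdeal.zero_mem)
    obtain ⟨z, hz⟩ := exists_over A B a x.1 hax
    have hz1 : ε ⟨a, ha⟩ = 1 := hFinj ⟨⟨a, ha⟩, ha0⟩ (((hagree _ m₀).trans h).trans (map_one _).symm)
    have hmem : z ∈ (PrimeSpectrum.basicOpen (ε ⟨a, ha⟩) : Set (PrimeSpectrum (B ⊗[A] Localization.Away a))) := by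
      rw [hz1, PrimeSpectrum.basicOpen_one]
      exact trivial
    rw [hεZ ⟨a, ha⟩, Set.mem_preimage, show (⟨_, hUmem a ha z⟩ : U) = x from Subtype.ext hz] at hmem
    exact hmem

/-- A set containing everything away from the closed fibre is connected. -/
theorem isConnected_of_subset (hA : CAlg2.IsGeomUnibranch A) (hdim : 2 ≤ ringKrullDim A)
    (s : Set (PrimeSpectrum B))
    (hs : {x : PrimeSpectrum B | PrimeSpectrum.comap (algebraMap A B) x ≠ closedPoint A} ⊆ s) :
    _root_.IsConnected s := by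
  refine (isConnected_away A B hA hdim).subset_closure hs fun x _ => ?_
  obtain ⟨P, hP, hPx⟩ := Ideal.exists_minimalPrimes_le (bot_le : (⊥ : Ideal B) ≤ x.asIdeal)
  haveI := hP.1.1
  refine ((PrimeSpectrum.le_iff_specializes ⟨P, hP.1.1⟩ x).1 hPx).mem_closed isClosed_closure (subset_closure ?_)
  intro h
  have hmin : P.comap (algebraMap A B) = ⊥ := by
    have h1 := UnibranchEtale.comap_mem_minimalPrimes (C := A) hP
    exact le_bot_iff.1 (h1.2 ⟨Ideal.isPrime_bot, le_rfl⟩ bot_le)
  have h0 : maximalIdeal A = ⊥ := (congrArg PrimeSpectrum.asIdeal h).symm.trans hmin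
  haveI : IsField A := (IsLocalRing.isField_iff_maximalIdeal_eq).2 h0
  rw [ringKrullDim_eq_zero_of_isField ‹_›] at hdim
  exact absurd hdim (by decide)

/-- Complements of closed sets over the closed point are connected. -/
theorem isConnected_compl_scheme (A : Type u) [CommRing A] [IsNoetherianRing A] [IsLocalRing A] [IsDomain A]
    (hA : CAlg2.IsGeomUnibranch A) (hdim : 2 ≤ ringKrullDim A)
    {X : Scheme.{u}} [IsLocallyNoetherian X] [ConnectedSpace X] (f : X ⟶ Spec (CommRingCat.of A)) [Flat f]
    (T : Set X) (hT : IsClosed T) (hTy : ∀ x ∈ T, f.base x = closedPoint A) : _root_.IsConnected Tᶜ := by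
  refine GUConn.isConnected_compl_of_stalks hT fun x => ?_
  by_cases hx : x ∈ T
  · have hfx : f x = closedPoint A := hTy x hx
    let ψ : A →+* X.presheaf.stalk x :=
      (Spec.preimage (X.fromSpecStalk x ≫ f)).hom
    letI := ψ.toAlgebra
    have hψ : Spec.map (CommRingCat.ofHom ψ) = X.fromSpecStalk x ≫ f := Spec.map_preimage _
    haveI : Flat (X.fromSpecStalk x) := GrpField.flat_fromSpecStalk x
    haveI : Module.Flat A (X.presheaf.stalk x) := by
      have h1 : Flat (Spec.map (CommRingCat.ofHom ψ)) := hψ ▸ inferInstance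
      exact RingHom.flat_algebraMap_iff.mp ((HasRingHomProperty.Spec_iff (P := @Flat)).mp h1)
    haveI : IsLocalHom (algebraMap A (X.presheaf.stalk x)) := by
      refine (((local_hom_TFAE ψ).out 0 4 rfl rfl).2 ?_ :)
      have h1 : Spec.map (CommRingCat.ofHom ψ) (closedPoint (X.presheaf.stalk x)) = f x := by
        rw [hψ, Scheme.Hom.comp_apply, Scheme.fromSpecStalk_closedPoint]
      exact congrArg PrimeSpectrum.asIdeal (h1.trans hfx)
    refine isConnected_of_subset A (X.presheaf.stalk x) hA hdim _ fun p hp hpT => hp ?_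
    have h2 : Spec.map (CommRingCat.ofHom ψ) p = closedPoint A := by
      rw [hψ]
      exact hTy _ hpT
    exact h2
  · have huniv : (X.fromSpecStalk x).base ⁻¹' Tᶜ = Set.univ := Set.eq_univ_of_forall fun p => by
      have : X.fromSpecStalk x p ∈ Set.range (X.fromSpecStalk x) := ⟨p, rfl⟩
      rw [Scheme.range_fromSpecStalk] at this
      exact fun hp => hx (this.mem_closed hT hp)
    rw [huniv]
    refine ⟨⟨closedPoint (X.presheaf.stalk x), trivial⟩, isPreconnected_closed_iff.2 ?_⟩
    rintro F G hF hG - ⟨p, -, hp⟩ ⟨q, -, hq⟩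
    exact ⟨closedPoint (X.presheaf.stalk x), trivial,
      (specializes_closedPoint (R := X.presheaf.stalk x) p).mem_closed hF hp,
      (specializes_closedPoint (R := X.presheaf.stalk x) q).mem_closed hG hq⟩

end Groth.Agent.PunctFlat
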